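import Groth.Agent.ResProp.EF.K517.CobSeam
import Groth.Agent.ResProp.EF.K566.Small
import Groth.Agent.ResProp.EF.K110.EvC3
import Groth.Agent.ResProp.EF.X56.ChartF
import Groth.Agent.ResProp.EF.K409.Th

/-!
# F5: generation by invariants and acyclicity, from (c4) (helper868)

* `ActOut` : action of `P` on the `us H^j(Y ⊗ K)`, `Y` bounded, with values in a class `S` (output of (c4));
* `GenS` : objects of `S` are acyclic for `RG γ` and generated over `P` by their invariants;
* `ActOut.acyc`, `ActOut.act'`, `ActOut.act'_nat`, `ActOut.gen` : what F5 needs;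
* `genS_comod` : `GenS` for `Comod A` and `GSmall`.
-/

set_option autoImplicit false
set_option backward.defeqAttrib.useBackward true
set_option backward.isDefEq.respectTransparency false
set_option backward.isDefEq.respectTransparency.types false
set_option linter.dupNamespace false

open CategoryTheory CategoryTheory.Limits Opposite HomologicalComplex

noncomputable section

namespace Groth.Agent.ResProp.EF.K868

open Groth.Agent.ResProp.EF.K294 Groth.Agent.PerfB.RingKFlat Groth.Agent.PerfB Groth.Agent.ResProp.EF.F5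
  Groth.Agent.ResProp.EF.K874 Groth.Agent.ResProp.EF.K792 Groth.Agent.ResProp.EF.K110

universe w v u

section Abs

variable {A : Type u} [CommRing A] {C : Type v} [Category.{w} C] [Abelian C] (X : Chart A C)
  (P : Type u)
  (TC : C ⥤ C ⥤ C) [TC.Additive] [∀ M, (TC.obj M).Additive]
  [∀ K L : CochainComplex C ℤ, CochainComplex.HasMapBifunctor K L TC]

/-- the output of (c4) -/
structure ActOut (S : ∀ M : C, (P → (X.us.obj M ⟶ X.us.obj M)) → Prop) (K : CochainComplex C ℤ) where
  act : ∀ (Y : CochainComplex C ℤ), P → ∀ j : ℤ, (X.us.obj (((TC.map₂CochainComplex.obj Y).obj K).homology j) ⟶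
    X.us.obj (((TC.map₂CochainComplex.obj Y).obj K).homology j))
  small : ∀ (Y : CochainComplex C ℤ), F5.Bdd Y → ∀ j : ℤ, S (((TC.map₂CochainComplex.obj Y).obj K).homology j)
    (fun p => act Y p j)
  nat : ∀ {Y Y' : CochainComplex C ℤ}, F5.Bdd Y → F5.Bdd Y' → ∀ (f : Y ⟶ Y') (p : P),
    act Y p 0 ≫ X.us.map (homologyMap ((TC.map₂CochainComplex.map f).app K) 0) =
      X.us.map (homologyMap ((TC.map₂CochainComplex.map f).app K) 0) ≫ act Y' p 0

variable (γ : C ⥤ (SimplexCategory ⥤ AddCommGrpCat.{u})) [γ.Additive] [PreservesFiniteLimits γ]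
  [PreservesFiniteColimits γ] (e₀ : c0 γ ≅ usG X)

variable {P} in
/-- small objects are acyclic and generated by their invariants -/
structure GenS (S : ∀ M : C, (P → (X.us.obj M ⟶ X.us.obj M)) → Prop) : Prop where
  acyc : ∀ (M : C) (ρ : P → (X.us.obj M ⟶ X.us.obj M)), S M ρ → Acyc (RG γ) M
  gen : ∀ (M : C) (ρ : P → (X.us.obj M ⟶ X.us.obj M)), S M ρ → ∀ Z : AddSubgroup (X.us.obj M),
    (∀ z ∈ K517.inv (rgPrj γ) M, (e₀.hom.app M).hom z ∈ Z) → (∀ (p : P), ∀ z ∈ Z, (ρ p).hom z ∈ Z) → Z = ⊤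

namespace ActOut

variable {X P TC} {S : ∀ M : C, (P → (X.us.obj M ⟶ X.us.obj M)) → Prop} {K : CochainComplex C ℤ}
  (O : ActOut X P TC S K) {γ e₀} (hS : GenS X γ e₀ S) (c : BifCompare.Data TC (TR A) X.us X.us X.us)

include O hS in
theorem acyc (Y : CochainComplex C ℤ) (hY : F5.Bdd Y) (j : ℤ) :
    Acyc (RG γ) (((TC.map₂CochainComplex.obj Y).obj K).homology j) :=
  hS.acyc _ _ (O.small Y hY j)

/-- the action on `hh` -/
def act' (p : P) (Y : CochainComplex C ℤ) : (hh X (X.usC.obj K)).obj Y →+ (hh X (X.usC.obj K)).obj Y :=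
  ((hhIso X TC c K).inv.app Y ≫ O.act Y p 0 ≫ (hhIso X TC c K).hom.app Y).hom.toAddMonoidHom

theorem act'_nat (p : P) {Y Y' : CochainComplex C ℤ} (hY : F5.Bdd Y) (hY' : F5.Bdd Y') (f : Y ⟶ Y')
    (z : (hh X (X.usC.obj K)).obj Y) :
    O.act' c p Y' (((hh X (X.usC.obj K)).map f).hom z) = ((hh X (X.usC.obj K)).map f).hom (O.act' c p Y z) := by
  have h1 : (hh X (X.usC.obj K)).map f ≫ (hhIso X TC c K).inv.app Y' ≫ O.act Y' p 0 ≫ (hhIso X TC c K).hom.app Y' =
      ((hhIso X TC c K).inv.app Y ≫ O.act Y p 0 ≫ (hhIso X TC c K).hom.app Y) ≫ (hh X (X.usC.obj K)).map f := by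
    have h2 := (hhIso X TC c K).inv.naturality f
    have h3 := (hhIso X TC c K).hom.naturality f
    have h4 := O.nat hY hY' f p
    rw [← Category.assoc, h2, Category.assoc, Category.assoc, Category.assoc, ← h3]
    congr 1
    rw [← Category.assoc, ← Category.assoc]
    congr 1
    exact h4.symm
  exact congrArg (fun g => g.hom z) h1

include hS in
/-- generation -/
theorem gen (Y : CochainComplex C ℤ) (hY : F5.Bdd Y) (Z : AddSubgroup ((hh X (X.usC.obj K)).obj Y))
    (h1 : invG X γ e₀ TC c K Y ≤ Z) (h2 : ∀ (p : P), ∀ z ∈ Z, O.act' c p Y z ∈ Z) : Z = ⊤ := by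
  let e := (hhIso X TC c K).app Y
  let Z' : AddSubgroup (X.us.obj (((TC.map₂CochainComplex.obj Y).obj K).homology 0)) :=
    Z.comap e.hom.hom.toAddMonoidHom
  have hZ' : Z' = ⊤ := by
    refine hS.gen _ _ (O.small Y hY 0) Z' ?_ ?_
    · intro z hz
      exact h1 ⟨z, hz, rfl⟩
    · intro p z hz
      have h3 := h2 p _ hz
      change e.hom.hom ((O.act Y p 0).hom z) ∈ Z
      have h4 : O.act' c p Y (e.hom.hom z) = e.hom.hom ((O.act Y p 0).hom z) := by
        change e.hom.hom ((O.act Y p 0).hom (e.inv.hom (e.hom.hom z))) = _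
        have h5 : e.inv.hom (e.hom.hom z) = z := congrArg (fun g => g.hom z) e.hom_inv_id
        rw [h5]
      rw [← h4]
      exact h3
  rw [eq_top_iff]
  intro z _
  have h6 : e.inv.hom z ∈ Z' := by rw [hZ']; trivial
  have h7 : e.hom.hom (e.inv.hom z) = z := congrArg (fun g => g.hom z) e.inv_hom_id
  have h8 : e.hom.hom (e.inv.hom z) ∈ Z := h6
  rw [h7] at h8
  exact h8

end ActOut

end Abs

section Comod

open EF56 K566 K784.BC K784.PM K477

variable {A : NFᵒᵖ ⥤ CommRingCat.{u}} [hA : Fact (GR A)] {D : NFᵒᵖ ⥤ CommRingCat.{u}} (j : A ⟶ D)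
  {P : Type u} [CommRing P] [Algebra (A.obj (op ⟨0⟩)) P] (π : P →+* D.obj (op ⟨0⟩))

/-- `M` with the action `ρ` of `P` on the chart is small -/
def IsGS (M : Comod A) (ρ : P → ((chartF A).us.obj M ⟶ (chartF A).us.obj M)) : Prop :=
  ∃ (pm : Module P ((toPM M.obj).obj ⟨0⟩)) (tw : IsScalarTower (A.obj (op ⟨0⟩)) P ((toPM M.obj).obj ⟨0⟩)),
    (∀ (q : P) (m : (toPM M.obj).obj ⟨0⟩), (ρ q).hom m = q • m) ∧
      GSmall j π { M := toPM M.obj, cart := M.property, pm := pm, tw := tw }

variable {j π}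

/-- small objects of `Comod A` are acyclic for the cobar functor and generated by their invariants -/
theorem genS_comod (hj : CartHom j) (hπ : Function.Surjective π) {B : Type u} [CommRing B] (G : Gal D B)
    (S : ∀ M : Comod A, (P → ((chartF A).us.obj M ⟶ (chartF A).us.obj M)) → Prop)
    (hS : ∀ (M : Comod A) (ρ : P → ((chartF A).us.obj M ⟶ (chartF A).us.obj M)), S M ρ → IsGS j π M ρ) :
    GenS (chartF A) (K476.CobInst.cob A) (K476.CobInst.cobZero A) S where
  acyc M ρ h := by
    obtain ⟨pm, tw, -, h⟩ := hS M ρ h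
    exact K517.acyc_cob M (h.main hA.out hj hπ G).1
  gen M ρ h Z h1 h2 := by
    obtain ⟨pm, tw, hρ, h⟩ := hS M ρ h
    have h3 := (h.main hA.out hj hπ G).2
    rw [eq_top_iff]
    intro z _
    have hz : (z : (toPM M.obj).obj ⟨0⟩) ∈
        Submodule.span P {x : (toPM M.obj).obj ⟨0⟩ | K477.cob (toPM M.obj) 0 x = 0} := by
      have h4 : (z : (toPM M.obj).obj ⟨0⟩) ∈ (⊤ : Submodule P ((toPM M.obj).obj ⟨0⟩)) := trivial
      rw [← h3] at h4
      exact h4
    induction hz using Submodule.span_induction with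
    | mem x hx => exact h1 x ((K517.mem_inv_cob_iff M x).2 hx)
    | zero => exact Z.zero_mem
    | add x y _ _ hx hy => exact Z.add_mem (hx trivial) (hy trivial)
    | smul q x _ hx =>
      have h5 := h2 q x (hx trivial)
      rw [hρ] at h5
      exact h5

end Comod

end Groth.Agent.ResProp.EF.K868
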