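import Groth.Agent.ResProp.EF.K868.KHit
import Groth.Agent.ResProp.EF.K868.Gen
import Groth.Agent.ResProp.EF.K110.Fin5C
import Groth.Agent.ResProp.EF.K566.SmallTh

/-!
# `StmtRoofHit` from (c4) (helper868)

* `ActFor KD r` : the action of `P` on `H^j(Y ⊗ K)` with small values, for the flat model `K` of the roof `r`;
* `StmtAct` : it exists;
* `stmtRoofHit : StmtAct → StmtRoofHit`.
-/

set_option autoImplicit false
set_option backward.defeqAttrib.useBackward true
set_option backward.isDefEq.respectTransparency false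
set_option backward.isDefEq.respectTransparency.types false
set_option linter.dupNamespace false
set_option linter.style.haveILetI false

open CategoryTheory CategoryTheory.Limits Opposite HomologicalComplex

noncomputable section

namespace Groth.Agent.ResProp.EF.K868

open K784.BC K784.PM K741.RP EF56 K294 Grp Arch K494.Seam

attribute [local instance] K911.TChart.add K911.TChart.add_obj K911.TChart.hmb

universe u

variable {k : Type u} [CommRing k] {A : NFᵒᵖ ⥤ CommRingCat.{u}} [GRF k A] [Fact (GR A)]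
  {x : PrimeSpectrum (A.obj (op ⟨0⟩))} {c : CoverDatum k A x}

/-- **(c4)** for a kernel datum and a roof -/
abbrev ActFor (KD : KernelDatum c) (r : KRoof KD) :=
  ActOut (chartF A) KD.P (K110.tchartF A).TC (K566.Sm c.Y.j (KD.π : KD.P →+* c.Y.D.obj (op ⟨0⟩))) r.D.K

/-- **(c4)** -/
def StmtAct : Prop := ∀ (p : ℕ) (k : Type u) [CommRing k] [IsLb p k] (A : NFᵒᵖ ⥤ CommRingCat.{u}) [GRF k A]
  [Fact (GR A)] (x : PrimeSpectrum (A.obj (op ⟨0⟩))) (c : CoverDatum k A x) (KD : KernelDatum c) (r : KRoof KD),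
  Nonempty (ActFor KD r)

theorem genS_kernel (KD : KernelDatum c) : GenS (chartF A) (K476.CobInst.cob A) (K110.cobZ A)
    (K566.Sm c.Y.j (KD.π : KD.P →+* c.Y.D.obj (op ⟨0⟩))) :=
  genS_comod c.Y.cart KD.π_surj c.gal _ fun M ρ h => by
    obtain ⟨hρ, h⟩ := h
    exact ⟨(K566.gobj M ρ hρ).pm, (K566.gobj M ρ hρ).tw, fun _ _ => rfl, h⟩

theorem roofHit [IsNoetherianRing (A.obj (op ⟨0⟩))] (KD : KernelDatum c) (r : KRoof KD) (a : ActFor KD r) :
    F5.AllHit (chartF A) ((chartF A).usC.obj r.D.K) :=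
  K110.allHit_comod A r.D
    { P := KD.P
      act := fun p Y => a.act' (K110.tchartF A).data p Y
      act_nat := fun p {_ _} hY hY' f z => a.act'_nat (K110.tchartF A).data p hY hY' f z
      gen := fun Y hY Z h1 h2 => a.gen (genS_kernel KD) (K110.tchartF A).data Y hY Z h1 h2 }
    (fun Y hY j _ => a.acyc (genS_kernel KD) Y hY j)

theorem stmtRoofHit (h : StmtAct.{u}) : StmtRoofHit.{u} := fun p k _ _ A _ _ x c KD r => by
  haveI := (inferInstance : IsLb p k).pid
  haveI := GRF.ft (k := k) (A := A)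
  haveI : IsNoetherianRing (A.obj (op ⟨0⟩)) := Algebra.FiniteType.isNoetherianRing k (A.obj (op ⟨0⟩))
  obtain ⟨a⟩ := h p k A x c KD r
  exact roofHit KD r a

end Groth.Agent.ResProp.EF.K868
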