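import Groth.Agent.ResProp.EF.K654.RepDatum
import Groth.Agent.ResProp.EF.K494.SeamC
import Groth.Agent.ResProp.EF.K66.NZArch
import Groth.Agent.ResProp.EF.K799.Congr

/-!
# Block (3) of `ArchTop`: `StmtKernelHit` from the REP datum with its roof and from the hits (helper868)

* `KRoof KD` : a REP datum `D` over `chartF A` and a roof `cmCx KD ⟵ W ⟶ D.K` of quasi-isomorphisms in `Comod A`;
* `StmtRep` : roofs exist (output of G6c);
* `StmtRoofHit` : all classes of `H^0(us Y ⊗ us D.K)` are hit (F5 with the generation by invariants);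
* `stmtKernelHit : StmtRep → StmtRoofHit → Arch.StmtKernelHit`.
-/

set_option autoImplicit false
set_option linter.dupNamespace false
set_option linter.style.haveILetI false

open CategoryTheory CategoryTheory.Limits Opposite HomologicalComplex

noncomputable section

namespace Groth.Agent.ResProp.EF.K868

open K784.BC K784.PM K741.RP EF56 K294 Grp Arch K494.Seam

universe u

variable {k : Type u} [CommRing k] {A : NFᵒᵖ ⥤ CommRingCat.{u}} [GRF k A] [Fact (GR A)]
  {x : PrimeSpectrum (A.obj (op ⟨0⟩))} {c : CoverDatum k A x}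

/-- the REP datum of a kernel datum, with the roof `Kc ⟵ W ⟶ K` in `Comod A` -/
structure KRoof (KD : KernelDatum c) where
  D : K654.RepDatum.{u} (chartF A)
  W : CochainComplex (Comod A) ℤ
  s : W ⟶ cmCx KD.K KD.d KD.dd
  t : W ⟶ D.K
  qs : QuasiIso s
  qt : QuasiIso t
  geW : W.IsStrictlyGE (-KD.e)
  geK : D.K.IsStrictlyGE (-KD.e)
  leK : D.K.IsStrictlyLE 0

/-- **G6c** -/
def StmtRep : Prop := ∀ (p : ℕ) (k : Type u) [CommRing k] [IsLb p k] (A : NFᵒᵖ ⥤ CommRingCat.{u}) [GRF k A]
  [Fact (GR A)] (x : PrimeSpectrum (A.obj (op ⟨0⟩))) (c : CoverDatum k A x) (KD : KernelDatum c), Nonempty (KRoof KD)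

/-- **F5 + generation** -/
def StmtRoofHit : Prop := ∀ (p : ℕ) (k : Type u) [CommRing k] [IsLb p k] (A : NFᵒᵖ ⥤ CommRingCat.{u}) [GRF k A]
  [Fact (GR A)] (x : PrimeSpectrum (A.obj (op ⟨0⟩))) (c : CoverDatum k A x) (KD : KernelDatum c) (r : KRoof KD),
  F5.AllHit (chartF A) ((chartF A).usC.obj r.D.K)

namespace KRoof

variable {KD : KernelDatum c} (r : KRoof KD)

/-- the cohomology of the flat model on the chart -/
def homIso (n : ℤ) : ((chartF A).usC.obj r.D.K).homology n ≅ (chartCx KD.K KD.d KD.dd).homology n :=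
  haveI := r.qs
  haveI := r.qt
  haveI _h1 : QuasiIso ((chartF A).usC.map r.s) := inferInstance
  haveI _h2 : QuasiIso ((chartF A).usC.map r.t) := inferInstance
  (asIso (homologyMap ((chartF A).usC.map r.t) n)).symm ≪≫ asIso (homologyMap ((chartF A).usC.map r.s) n) ≪≫
    homologyMapIso (usCmCx KD.K KD.d KD.dd) n

theorem hitCx (r : KRoof KD) (h : F5.AllHit (chartF A) ((chartF A).usC.obj r.D.K)) :
    HitCx (chartF A) x ((chartF A).usC.obj r.D.K) where
  bdd := by
    refine ⟨-KD.e, 0, ?_, ?_⟩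
    · have := r.geK
      rw [CochainComplex.isStrictlyGE_iff]
      exact fun i hi => (chartF A).us.map_isZero (r.D.K.isZero_of_isStrictlyGE (-KD.e) i hi)
    · have := r.leK
      rw [CochainComplex.isStrictlyLE_iff]
      exact fun i hi => (chartF A).us.map_isZero (r.D.K.isZero_of_isStrictlyLE 0 i hi)
  flat n := r.D.flatK n
  hit := h
  nz := by
    have hle : ((chartF A).usC.obj r.D.K).IsStrictlyLE 0 := by
      have := r.leK
      rw [CochainComplex.isStrictlyLE_iff]
      exact fun i hi => (chartF A).us.map_isZero (r.D.K.isZero_of_isStrictlyLE 0 i hi)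
    exact ⟨0, K66.NZ.not_exactAt_of_kernelDatum KD _ 0 (fun n => r.D.flatK n)
      (fun i hi => ShortComplex.exact_of_isZero_X₂ _
        (CochainComplex.isZero_of_isStrictlyLE ((chartF A).usC.obj r.D.K) 0 i hi)) (r.homIso 0)⟩

end KRoof

/-- **block (3) of `ArchTop`** -/
theorem stmtKernelHit (h1 : StmtRep.{u}) (h2 : StmtRoofHit.{u}) : StmtKernelHit.{u} :=
  stmtKernelHit_of fun p k _ _ A _ _ x c KD => by
    obtain ⟨r⟩ := h1 p k A x c KD
    exact ⟨_, r.hitCx (h2 p k A x c KD r)⟩

end Groth.Agent.ResProp.EF.K868
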